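import Mathlib.Geometry.RingedSpace.SheafedSpace
import Mathlib.AlgebraicGeometry.Scheme
import Mathlib.CategoryTheory.Limits.Shapes.Pullback.IsPullback.Basic

/-!
# A criterion for pushouts of ringed spaces

A square of ringed spaces which is a pushout of topological spaces and whose sections over every
open form a fibre square is a pushout.
-/

universe u

set_option autoImplicit false
set_option backward.isDefEq.respectTransparency false

open CategoryTheory Limits AlgebraicGeometry Opposite TopologicalSpace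

namespace Groth.Agent.PinchRSH7

abbrev PSpace := PresheafedSpace.{u, u + 1, u} CommRingCat.{u}

variable {Z X Y P : PSpace.{u}} {i : Z ⟶ X} {j : Z ⟶ Y} {a : X ⟶ P} {b : Y ⟶ P}

theorem comp_app_eq (w : i ≫ a = j ≫ b) (W : Opens P.carrier) :
    op ((Opens.map i.base).obj ((Opens.map a.base).obj W)) =
      op ((Opens.map j.base).obj ((Opens.map b.base).obj W)) :=
  congrArg (fun k => op ((Opens.map k).obj W)) (congrArg PresheafedSpace.Hom.base w : i.base ≫ a.base = j.base ≫ b.base)

theorem map_loop {T : TopCat.{u}} (F : T.Presheaf CommRingCat.{u}) {U V : (Opens T)ᵒᵖ} (k : U ⟶ V)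
    (l : V ⟶ U) (x : F.obj U) : F.map l (F.map k x) = x := by
  rw [← CommRingCat.comp_apply, ← Functor.map_comp, Subsingleton.elim (k ≫ l) (𝟙 _), CategoryTheory.Functor.map_id,
    CommRingCat.id_apply]

theorem exists_unique_desc (w : i ≫ a = j ≫ b) (hb : IsPushout i.base j.base a.base b.base)
    (hsec : ∀ (W : Opens P.carrier) (sX : X.presheaf.obj (op ((Opens.map a.base).obj W)))
      (sY : Y.presheaf.obj (op ((Opens.map b.base).obj W))),
      Z.presheaf.map (eqToHom (comp_app_eq w W)) (i.c.app (op ((Opens.map a.base).obj W)) sX) =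
        j.c.app (op ((Opens.map b.base).obj W)) sY →
      ∃! t, a.c.app (op W) t = sX ∧ b.c.app (op W) t = sY)
    {T : PSpace.{u}} (kX : X ⟶ T) (kY : Y ⟶ T) (hk : i ≫ kX = j ≫ kY) :
    ∃! d : P ⟶ T, a ≫ d = kX ∧ b ≫ d = kY := by
  have hkb : i.base ≫ kX.base = j.base ≫ kY.base := congrArg PresheafedSpace.Hom.base hk
  obtain ⟨m, hmX, hmY⟩ : ∃ m : P.carrier ⟶ T.carrier, a.base ≫ m = kX.base ∧ b.base ≫ m = kY.base :=
    ⟨hb.desc _ _ hkb, hb.inl_desc _ _ _, hb.inr_desc _ _ _⟩
  obtain ⟨kXb, kXc⟩ := kX
  obtain ⟨kYb, kYc⟩ := kY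
  subst hmX hmY
  have hinj : ∀ (W : Opens P.carrier) (s t : P.presheaf.obj (op W)), a.c.app (op W) s = a.c.app (op W) t →
      b.c.app (op W) s = b.c.app (op W) t → s = t := fun W s t h1 h2 => by
    obtain ⟨u, -, hu⟩ := hsec W (a.c.app (op W) t) (b.c.app (op W) t) (by
      have e := congr($(PresheafedSpace.congr_app w (op W)) t)
      rw [PresheafedSpace.comp_c_app, PresheafedSpace.comp_c_app] at e
      simp only [CommRingCat.comp_apply] at e
      refine (congrArg (fun y => Z.presheaf.map (eqToHom (comp_app_eq w W)) y) e).trans ?_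
      exact map_loop Z.presheaf _ _ _)
    exact (hu s ⟨h1, h2⟩).trans (hu t ⟨rfl, rfl⟩).symm
  have hlift : ∀ (U : (Opens T.carrier)ᵒᵖ) (z : T.presheaf.obj U),
      ∃ t, a.c.app (op ((Opens.map m).obj U.unop)) t = kXc.app U z ∧
        b.c.app (op ((Opens.map m).obj U.unop)) t = kYc.app U z := fun U z => by
    refine (hsec _ _ _ ?_).exists
    have e := congr($(PresheafedSpace.congr_app hk U) z)
    rw [PresheafedSpace.comp_c_app, PresheafedSpace.comp_c_app] at e
    simp only [CommRingCat.comp_apply] at e
    refine (congrArg (fun y => Z.presheaf.map (eqToHom (comp_app_eq w ((Opens.map m).obj U.unop))) y) e).trans ?_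
    exact map_loop Z.presheaf _ _ _
  choose f hf hf' using hlift
  let c : T.presheaf ⟶ m _* P.presheaf :=
    { app := fun U => CommRingCat.ofHom
        { toFun := f U
          map_one' := hinj _ _ _ ((hf U 1).trans ((map_one _).trans (map_one _).symm))
            ((hf' U 1).trans ((map_one _).trans (map_one _).symm))
          map_zero' := hinj _ _ _ ((hf U 0).trans ((map_zero _).trans (map_zero _).symm))
            ((hf' U 0).trans ((map_zero _).trans (map_zero _).symm))
          map_add' := fun z z' => hinj _ _ _ ((hf U _).trans (by rw [map_add, map_add, hf, hf]))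
            ((hf' U _).trans (by rw [map_add, map_add, hf', hf']))
          map_mul' := fun z z' => hinj _ _ _ ((hf U _).trans (by rw [map_mul, map_mul, hf, hf]))
            ((hf' U _).trans (by rw [map_mul, map_mul, hf', hf'])) }
      naturality := fun {U V} k => by
        ext z
        refine hinj ((Opens.map m).obj V.unop) _ _ ((hf V _).trans ?_) ((hf' V _).trans ?_)
        · have e₁ := congr($(kXc.naturality k) z)
          have e₂ := congr($(a.c.naturality ((Opens.map m).map k.unop).op) (f U z))
          exact e₁.trans ((congrArg _ (hf U z).symm).trans e₂.symm)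
        · have e₁ := congr($(kYc.naturality k) z)
          have e₂ := congr($(b.c.naturality ((Opens.map m).map k.unop).op) (f U z))
          exact e₁.trans ((congrArg _ (hf' U z).symm).trans e₂.symm) }
  have hfacX : a ≫ (⟨m, c⟩ : P ⟶ T) = ⟨a.base ≫ m, kXc⟩ := by
    refine PresheafedSpace.ext _ _ rfl (NatTrans.ext (funext fun U => ?_))
    ext z
    simp only [eqToHom_refl, Functor.whiskerRight_id']
    exact hf U z
  have hfacY : b ≫ (⟨m, c⟩ : P ⟶ T) = ⟨b.base ≫ m, kYc⟩ := by
    refine PresheafedSpace.ext _ _ rfl (NatTrans.ext (funext fun U => ?_))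
    ext z
    simp only [eqToHom_refl, Functor.whiskerRight_id']
    exact hf' U z
  refine ⟨⟨m, c⟩, ⟨hfacX, hfacY⟩, fun d hd => ?_⟩
  obtain ⟨db, dc⟩ := d
  obtain ⟨hdX, hdY⟩ := hd
  have hbeq : db = m := hb.hom_ext (congrArg PresheafedSpace.Hom.base (hdX.trans hfacX.symm))
    (congrArg PresheafedSpace.Hom.base (hdY.trans hfacY.symm))
  subst hbeq
  refine PresheafedSpace.ext _ _ rfl (NatTrans.ext (funext fun U => ?_))
  ext z
  simp only [eqToHom_refl, Functor.whiskerRight_id']
  refine hinj ((Opens.map db).obj U.unop) _ _ (Eq.trans ?_ (hf U z).symm) (Eq.trans ?_ (hf' U z).symm)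
  · have e := congr($(PresheafedSpace.congr_app hdX U) z)
    simpa using! e
  · have e := congr($(PresheafedSpace.congr_app hdY U) z)
    simpa using! e

/-- The same in sheafed spaces. -/
theorem isPushout_of_sections {Z X Y P : SheafedSpace.{u + 1, u, u} CommRingCat.{u}} {i : Z ⟶ X} {j : Z ⟶ Y}
    {a : X ⟶ P} {b : Y ⟶ P} (w : i ≫ a = j ≫ b)
    (hb : IsPushout i.hom.base j.hom.base a.hom.base b.hom.base)
    (hsec : ∀ (W : Opens P.carrier) (sX : X.presheaf.obj (op ((Opens.map a.hom.base).obj W)))
      (sY : Y.presheaf.obj (op ((Opens.map b.hom.base).obj W)))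
      (e : op ((Opens.map i.hom.base).obj ((Opens.map a.hom.base).obj W)) =
        op ((Opens.map j.hom.base).obj ((Opens.map b.hom.base).obj W))),
      Z.presheaf.map (eqToHom e) (i.hom.c.app (op ((Opens.map a.hom.base).obj W)) sX) =
        j.hom.c.app (op ((Opens.map b.hom.base).obj W)) sY →
      ∃! t, a.hom.c.app (op W) t = sX ∧ b.hom.c.app (op W) t = sY) :
    IsPushout i j a b := by
  have w' : i.hom ≫ a.hom = j.hom ≫ b.hom := congrArg InducedCategory.Hom.hom w
  have key := fun (s : PushoutCocone i j) => exists_unique_desc (i := i.hom) (j := j.hom) (a := a.hom) (b := b.hom)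
    (T := s.pt.toPresheafedSpace) w' hb (fun W sX sY h => hsec W sX sY _ h) s.inl.hom s.inr.hom
    (congrArg InducedCategory.Hom.hom s.condition : (i ≫ s.inl).hom = (j ≫ s.inr).hom)
  choose d hd hu using key
  exact IsPushout.of_isColimit' ⟨w⟩ (PushoutCocone.IsColimit.mk _ (fun s => InducedCategory.homMk (d s))
    (fun s => InducedCategory.Hom.ext (hd s).1) (fun s => InducedCategory.Hom.ext (hd s).2)
    (fun s m h1 h2 => InducedCategory.Hom.ext (hu s m.hom
      ⟨congrArg InducedCategory.Hom.hom h1, congrArg InducedCategory.Hom.hom h2⟩)))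

end Groth.Agent.PinchRSH7
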