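import Groth.Agent.Lib.Pinch4.Props
import Groth.Agent.Lib.Pinch4.Affine
import Groth.Agent.Lib.PinchH7.Sections
import Groth.Agent.Lib.PinchRSH7.Criterion

/-!
# Pinchings of schemes are pushouts of ringed spaces
-/

set_option autoImplicit false
set_option linter.style.haveILetI false
universe u

set_option backward.isDefEq.respectTransparency false

open AlgebraicGeometry CategoryTheory CategoryTheory.Limits TopologicalSpace Groth.Agent.FerrandPush Opposite
open Groth.Agent.Pinch4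

namespace Groth.Agent.PinchRSH7

variable {X Y Z P : Scheme.{u}} {i : Z ⟶ X} {j : Z ⟶ Y} {a : X ⟶ P} {b : Y ⟶ P}

/-- The forgetful functor from schemes to ringed spaces. -/
abbrev RS : Scheme.{u} ⥤ SheafedSpace.{u + 1, u, u} CommRingCat.{u} :=
  Scheme.forgetToLocallyRingedSpace ⋙ LocallyRingedSpace.forgetToSheafedSpace

theorem forget_injective {A B : Scheme.{u}} {f g : A ⟶ B} (h : RS.map f = RS.map g) : f = g := by
  apply Scheme.forgetToLocallyRingedSpace.map_injective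
  exact LocallyRingedSpace.forgetToSheafedSpace.map_injective h

/-- A pushout of ringed spaces along a closed immersion with affine maps is a pinching. -/
theorem isPinch_of_rsPushout [IsClosedImmersion i] [IsClosedImmersion b] [IsAffineHom a]
    (hpo : IsPushout (RS.map i) (RS.map j) (RS.map a) (RS.map b)) : IsPinch i j a b := by
  have hw : i ≫ a = j ≫ b := forget_injective (by rw [Functor.map_comp, Functor.map_comp]; exact hpo.w)
  refine ⟨hw, fun x => ?_⟩
  obtain ⟨O, hO, hxO, -⟩ := exists_isAffineOpen_mem_and_subset (X := P) (x := x) (U := ⊤) trivial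
  have hle : i ⁻¹ᵁ a ⁻¹ᵁ O ≤ j ⁻¹ᵁ b ⁻¹ᵁ O := by
    rw [← Scheme.Hom.comp_preimage, hw, Scheme.Hom.comp_preimage]
  have he : i ⁻¹ᵁ a ⁻¹ᵁ O = j ⁻¹ᵁ b ⁻¹ᵁ O := by
    rw [← Scheme.Hom.comp_preimage, ← Scheme.Hom.comp_preimage, hw]
  have hA : IsAffineOpen (a ⁻¹ᵁ O) := hO.preimage a
  have hsq : a.app O ≫ i.app (a ⁻¹ᵁ O) = b.app O ≫ j.appLE (b ⁻¹ᵁ O) (i ⁻¹ᵁ a ⁻¹ᵁ O) hle := by
    rw [Scheme.Hom.app_eq_appLE, Scheme.Hom.app_eq_appLE, Scheme.Hom.app_eq_appLE]
    exact sq_appLE hw _ _ _ _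
  refine ⟨O, hxO, hO, hA, hO.preimage b, hA.preimage i, hle, ⟨i.app_surjective _ hA, fun t => ?_, fun y x h => ?_,
    fun s t h1 h2 => ?_⟩⟩
  · exact (congr($hsq t)).symm
  · have hab : i.app (a ⁻¹ᵁ O) x =
        Z.presheaf.map (eqToHom he).op (j.app (b ⁻¹ᵁ O) y) := by
      rw [← h, Scheme.Hom.appLE, Subsingleton.elim (homOfLE hle) (eqToHom he)]
      rfl
    obtain ⟨t, ⟨t1, t2⟩, -⟩ := PinchH7.existsUnique_section_scheme hpo hw O x y hab
    exact ⟨t, t2, t1⟩
  · have hab : i.app (a ⁻¹ᵁ O) (a.app O t) = Z.presheaf.map (eqToHom he).op (j.app (b ⁻¹ᵁ O) (b.app O t)) := by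
      refine (congr($hsq t)).trans ?_
      show (j.appLE (b ⁻¹ᵁ O) (i ⁻¹ᵁ a ⁻¹ᵁ O) hle) (b.app O t) = _
      rw [Scheme.Hom.appLE, Subsingleton.elim (homOfLE hle) (eqToHom he)]
      rfl
    obtain ⟨u, -, hu⟩ := PinchH7.existsUnique_section_scheme hpo hw O _ _ hab
    exact (hu s ⟨h2, h1⟩).trans (hu t ⟨rfl, rfl⟩).symm

/-- Points with the same image, one outside the glued locus, are equal. -/
theorem eq_or_mem_range (H : IsPinch i j a b) {x x' : X} (h : a x = a x') :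
    x = x' ∨ x ∈ Set.range i := by
  obtain ⟨O, hxO, c⟩ := H.cover (a x)
  obtain ⟨Q, rfl⟩ : x ∈ Set.range c.affX.fromSpec := by rw [c.affX.range_fromSpec]; exact hxO
  obtain ⟨Q', rfl⟩ : x' ∈ Set.range c.affX.fromSpec := by
    rw [c.affX.range_fromSpec]; show a x' ∈ O; rw [← h]; exact hxO
  by_cases hQ : RingHom.ker (i.app (a ⁻¹ᵁ O)).hom ≤ Q.asIdeal
  · obtain ⟨T, rfl⟩ : Q ∈ Set.range (PrimeSpectrum.comap (i.app (a ⁻¹ᵁ O)).hom) := by
      rw [range_comap_of_surjective _ _ c.ferrand.surj]; exact hQ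
    refine Or.inr ⟨c.affZ.fromSpec T, ?_⟩
    have hi := IsAffineOpen.SpecMap_appLE_fromSpec i c.affX c.affZ le_rfl
    rw [← Scheme.Hom.app_eq_appLE] at hi
    exact (congr($hi T)).symm
  · refine Or.inl (congrArg c.affX.fromSpec (eq_of_comap_eq c.ferrand hQ ?_))
    have ha := c.sq_a
    rw [Category.assoc, IsAffineOpen.isoSpec_inv_ι] at ha
    refine c.affO.fromSpec.isOpenEmbedding.injective ?_
    exact (congr($ha Q)).trans (h.trans (congr($ha Q')).symm)

theorem exists_glued (H : IsPinch i j a b) [IsClosedImmersion i] {x : X} {y : Y} (h : a x = b y) :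
    ∃ z, i z = x ∧ j z = y := by
  obtain ⟨p, hp1, hp2⟩ := Scheme.Pullback.exists_preimage_pullback (f := a) (g := b) x y h
  refine ⟨H.isPullback.isoPullback.inv p, ?_, ?_⟩
  · rw [← Scheme.Hom.comp_apply, IsPullback.isoPullback_inv_fst, hp1]
  · rw [← Scheme.Hom.comp_apply, IsPullback.isoPullback_inv_snd, hp2]

/-- Continuous maps on the pieces agreeing on the glued locus descend. -/
theorem exists_desc_base (H : IsPinch i j a b) [IsClosedImmersion i] {T : TopCat.{u}}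
    (f : X.toTopCat ⟶ T) (g : Y.toTopCat ⟶ T) (hfg : ∀ z, f (i z) = g (j z)) :
    ∃ m : P.toTopCat ⟶ T, (∀ x, m (a x) = f x) ∧ ∀ y, m (b y) = g y := by
  classical
  haveI := H.isClosedImmersion_b
  have hbinj : Function.Injective b := b.isClosedEmbedding.injective
  let δ : P → T := fun p =>
    if h : ∃ y, b y = p then g h.choose else f ((H.covers p).resolve_right h).choose
  have hb : ∀ y, δ (b y) = g y := fun y => by
    have h : ∃ y', b y' = b y := ⟨y, rfl⟩
    simp only [δ, dif_pos h]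
    exact congrArg _ (hbinj h.choose_spec)
  have ha : ∀ x, δ (a x) = f x := fun x => by
    by_cases h : ∃ y, b y = a x
    · obtain ⟨y, hy⟩ := h
      obtain ⟨z, rfl, rfl⟩ := exists_glued H hy.symm
      rw [← hy, hb]
      exact (hfg z).symm
    · simp only [δ, dif_neg h]
      have hs := ((H.covers (a x)).resolve_right h).choose_spec
      rcases eq_or_mem_range H hs.symm with e | ⟨z, rfl⟩
      · rw [← e]
      · exact absurd ⟨j z, (congr($(H.w) z)).symm⟩ h
  refine ⟨TopCat.ofHom ⟨δ, continuous_def.2 fun U hU => ?_⟩, ha, hb⟩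
  obtain ⟨S, hS1, hS2⟩ := H.exists_open ⟨f ⁻¹' U, hU.preimage f.hom.continuous⟩
    ⟨g ⁻¹' U, hU.preimage g.hom.continuous⟩ (Opens.ext (Set.ext fun z => by
      show f (i z) ∈ U ↔ g (j z) ∈ U
      rw [hfg]))
  suffices hS : δ ⁻¹' U = (S : Set P) by rw [hS]; exact S.isOpen
  refine Set.ext fun p => ?_
  rcases H.covers p with ⟨z, rfl⟩ | ⟨y, rfl⟩
  · show δ (a z) ∈ U ↔ z ∈ a ⁻¹ᵁ S
    rw [ha, hS1]; rfl
  · show δ (b y) ∈ U ↔ y ∈ b ⁻¹ᵁ S
    rw [hb, hS2]; rfl

/-- A pinching is a pushout of topological spaces. -/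
theorem isPushout_base (H : IsPinch i j a b) [IsClosedImmersion i] :
    IsPushout i.base j.base a.base b.base := by
  have w : i.base ≫ a.base = j.base ≫ b.base := congrArg (fun k : Z ⟶ P => k.base) H.w
  have key : ∀ s : PushoutCocone i.base j.base, ∃ m : P.toTopCat ⟶ s.pt,
      (∀ x, m (a x) = s.inl x) ∧ ∀ y, m (b y) = s.inr y := fun s =>
    exists_desc_base H s.inl s.inr fun z => congr($(s.condition) z)
  choose m hm hm' using key
  refine IsPushout.of_isColimit' ⟨w⟩ (PushoutCocone.IsColimit.mk _ m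
    (fun s => TopCat.ext fun x => hm s x) (fun s => TopCat.ext fun y => hm' s y) fun s m' h1 h2 => TopCat.ext fun p => ?_)
  rcases H.covers p with ⟨z, rfl⟩ | ⟨y, rfl⟩
  · exact (congr($h1 z)).trans (hm s z).symm
  · exact (congr($h2 y)).trans (hm' s y).symm

/-- Sections over a chart form a fibre square. -/
theorem exists_section_chart {O V : P.Opens} (c : Chart i j a b O) (hO : O ≤ V)
    {W : Z.Opens} (h1 : W ≤ i ⁻¹ᵁ a ⁻¹ᵁ V) (h2 : W ≤ j ⁻¹ᵁ b ⁻¹ᵁ V) (hW : i ⁻¹ᵁ a ⁻¹ᵁ V ≤ W)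
    (sX : Γ(X, a ⁻¹ᵁ V)) (sY : Γ(Y, b ⁻¹ᵁ V)) (hs : i.appLE _ W h1 sX = j.appLE _ W h2 sY) :
    ∃ t : Γ(P, O), a.app O t = X.presheaf.map (homOfLE (a.preimage_mono hO)).op sX ∧
      b.app O t = Y.presheaf.map (homOfLE (b.preimage_mono hO)).op sY := by
  have hOW : i ⁻¹ᵁ a ⁻¹ᵁ O ≤ W := (i.preimage_mono (a.preimage_mono hO)).trans hW
  obtain ⟨t, t1, t2⟩ := c.ferrand.exist (Y.presheaf.map (homOfLE (b.preimage_mono hO)).op sY)
    (X.presheaf.map (homOfLE (a.preimage_mono hO)).op sX) (by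
      have e := congrArg (Z.presheaf.map (homOfLE hOW).op) hs
      rw [← CommRingCat.comp_apply, ← CommRingCat.comp_apply, Scheme.Hom.appLE_map, Scheme.Hom.appLE_map] at e
      show (Y.presheaf.map _ ≫ j.appLE _ _ c.le) sY = (X.presheaf.map _ ≫ i.app _) sX
      rw [Scheme.Hom.map_appLE, Scheme.Hom.app_eq_appLE, Scheme.Hom.map_appLE]
      exact e.symm)
  exact ⟨t, t2, t1⟩

/-- Sections of a pinching are determined by their pull-backs to the pieces. -/
theorem section_ext (H : IsPinch i j a b) {V : P.Opens} (s t : Γ(P, V)) (h1 : a.app V s = a.app V t)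
    (h2 : b.app V s = b.app V t) : s = t := by
  choose O hxO hO c using fun x : V => H.exists_chart_le x.1 V x.2
  refine TopCat.Sheaf.eq_of_locally_eq' P.sheaf O V (fun x => homOfLE (hO x))
    (fun x hx => Opens.mem_iSup.2 ⟨⟨x, hx⟩, hxO _⟩) s t fun x => ?_
  have n1 := fun r => congr($(a.naturality (homOfLE (hO x)).op) r)
  have n2 := fun r => congr($(b.naturality (homOfLE (hO x)).op) r)
  simp only [CommRingCat.comp_apply] at n1 n2
  refine (c x).ferrand.ext _ _ ?_ ?_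
  · exact (n2 s).trans ((congrArg _ h2).trans (n2 t).symm)
  · exact (n1 s).trans ((congrArg _ h1).trans (n1 t).symm)

/-- Sections of a pinching form a fibre square. -/
theorem existsUnique_section (H : IsPinch i j a b) (V : P.Opens) {W : Z.Opens} (h1 : W ≤ i ⁻¹ᵁ a ⁻¹ᵁ V)
    (h2 : W ≤ j ⁻¹ᵁ b ⁻¹ᵁ V) (hW : i ⁻¹ᵁ a ⁻¹ᵁ V ≤ W)
    (sX : Γ(X, a ⁻¹ᵁ V)) (sY : Γ(Y, b ⁻¹ᵁ V)) (hs : i.appLE _ W h1 sX = j.appLE _ W h2 sY) :
    ∃! t : Γ(P, V), a.app V t = sX ∧ b.app V t = sY := by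
  choose O hxO hO c using fun x : V => H.exists_chart_le x.1 V x.2
  choose t ht ht' using fun x => exists_section_chart (c x) (hO x) h1 h2 hW sX sY hs
  have hV : V ≤ ⨆ x, O x := fun x hx => Opens.mem_iSup.2 ⟨⟨x, hx⟩, hxO _⟩
  have hcompat : TopCat.Presheaf.IsCompatible P.sheaf.obj O t := fun x y => by
    refine section_ext H _ _ ?_ ?_
    · show a.app _ (P.presheaf.map (Opens.infLELeft _ _).op (t x)) = a.app _ (P.presheaf.map (Opens.infLERight _ _).op (t y))
      rw [← CommRingCat.comp_apply, ← CommRingCat.comp_apply, a.naturality, a.naturality, CommRingCat.comp_apply,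
        CommRingCat.comp_apply, ht, ht, ← CommRingCat.comp_apply, ← CommRingCat.comp_apply, ← Functor.map_comp,
        ← Functor.map_comp]
      rfl
    · show b.app _ (P.presheaf.map (Opens.infLELeft _ _).op (t x)) = b.app _ (P.presheaf.map (Opens.infLERight _ _).op (t y))
      rw [← CommRingCat.comp_apply, ← CommRingCat.comp_apply, b.naturality, b.naturality, CommRingCat.comp_apply,
        CommRingCat.comp_apply, ht', ht', ← CommRingCat.comp_apply, ← CommRingCat.comp_apply, ← Functor.map_comp,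
        ← Functor.map_comp]
      rfl
  obtain ⟨s, hs', -⟩ := TopCat.Sheaf.existsUnique_gluing' P.sheaf O V (fun x => homOfLE (hO x)) hV t hcompat
  have n1 := fun x r => congr($(a.naturality (homOfLE (hO x)).op) r)
  have n2 := fun x r => congr($(b.naturality (homOfLE (hO x)).op) r)
  simp only [CommRingCat.comp_apply] at n1 n2
  have hsX : a.app V s = sX := by
    refine TopCat.Sheaf.eq_of_locally_eq' X.sheaf (fun x => a ⁻¹ᵁ O x) (a ⁻¹ᵁ V)
      (fun x => homOfLE (a.preimage_mono (hO x))) (fun x hx => Opens.mem_iSup.2 ⟨⟨a x, hx⟩, hxO ⟨a x, hx⟩⟩) _ _ fun x => ?_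
    exact ((n1 x s).symm.trans (congrArg _ (hs' x))).trans (ht x)
  have hsY : b.app V s = sY := by
    refine TopCat.Sheaf.eq_of_locally_eq' Y.sheaf (fun x => b ⁻¹ᵁ O x) (b ⁻¹ᵁ V)
      (fun x => homOfLE (b.preimage_mono (hO x))) (fun x hx => Opens.mem_iSup.2 ⟨⟨b x, hx⟩, hxO ⟨b x, hx⟩⟩) _ _ fun x => ?_
    exact ((n2 x s).symm.trans (congrArg _ (hs' x))).trans (ht' x)
  exact ⟨s, ⟨hsX, hsY⟩, fun u hu => section_ext H u s (hu.1.trans hsX.symm) (hu.2.trans hsY.symm)⟩

/-- A pinching is a pushout of ringed spaces. -/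
theorem isPushout_rs (H : IsPinch i j a b) [IsClosedImmersion i] :
    IsPushout (RS.map i) (RS.map j) (RS.map a) (RS.map b) := by
  refine isPushout_of_sections (by rw [← Functor.map_comp, ← Functor.map_comp, H.w]) (isPushout_base H) ?_
  intro W sX sY e h
  refine existsUnique_section H W (W := j ⁻¹ᵁ b ⁻¹ᵁ W) (le_of_eq (congrArg Opposite.unop e).symm) le_rfl
    (le_of_eq (congrArg Opposite.unop e)) sX sY ?_
  rw [← Scheme.Hom.app_eq_appLE]
  refine Eq.trans ?_ h
  show (i.app (a ⁻¹ᵁ W) ≫ Z.presheaf.map _) sX = (i.app (a ⁻¹ᵁ W) ≫ Z.presheaf.map (eqToHom e)) sX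
  congr 2

end Groth.Agent.PinchRSH7
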